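import Groth.Agent.GenericFree.Basic
import Mathlib.RingTheory.Jacobson.Ring
import Mathlib.RingTheory.Flat.Basic

/-!
# An endomorphism which is scalar at almost all closed points is generically scalar
-/

universe u

open Groth.GenericFree

namespace Groth.CohTwo.EllSimple

variable {R : Type u} [CommRing R] [IsDomain R]

/-- An element lying in all maximal ideals avoiding a nonzero element of a Jacobson domain is zero. -/
theorem eq_zero_of_forall_maximal [IsJacobsonRing R] {g : R} (hg : g ≠ 0) {x : R}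
    (h : ∀ 𝔪 : Ideal R, 𝔪.IsMaximal → g ∉ 𝔪 → x ∈ 𝔪) : x = 0 := by
  have hj : (⊥ : Ideal R).jacobson = ⊥ :=
    IsJacobsonRing.out inferInstance (Ideal.IsPrime.isRadical Ideal.isPrime_bot)
  have h0 : g * x ∈ (⊥ : Ideal R).jacobson := Ideal.mem_sInf.2 fun {J} hJ => by
    by_cases hgJ : g ∈ J
    · exact Ideal.mul_mem_right _ _ hgJ
    · exact Ideal.mul_mem_left _ _ (h J hJ.2 hgJ)
  rw [hj, Ideal.mem_bot] at h0
  exact (mul_eq_zero.1 h0).resolve_left hg

/-- Torsion-free generically free modules: scalar modulo almost all maximal ideals means scalar. -/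
theorem exists_scalar [IsJacobsonRing R] {M : Type u} [AddCommGroup M] [Module R M]
    (htf : ∀ (r : R) (m : M), r ≠ 0 → r • m = 0 → m = 0) (hgf : GF R M) (ψ : M →ₗ[R] M)
    (g : R) (hg : g ≠ 0)
    (h : ∀ 𝔪 : Ideal R, 𝔪.IsMaximal → g ∉ 𝔪 →
      ∃ c : R, ∀ m : M, ψ m - c • m ∈ 𝔪 • (⊤ : Submodule R M)) :
    ∃ a b : R, b ≠ 0 ∧ ∀ m : M, b • ψ m = a • m := by
  classical
  obtain ⟨f, hf, ι, φ, hφ, hs⟩ := hgf
  have hcoord : ∀ 𝔪 : Ideal R, 𝔪.IsPrime → f ∉ 𝔪 → ∀ v : ι →₀ R,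
      φ v ∈ 𝔪 • (⊤ : Submodule R M) → ∀ q, v q ∈ 𝔪 := by
    intro 𝔪 h𝔪 hf𝔪 v hv q
    have key : ∀ x ∈ 𝔪 • (⊤ : Submodule R M),
        ∃ (K : ℕ) (u : ι →₀ R), (∀ q, u q ∈ 𝔪) ∧ f ^ K • x = φ u := by
      intro x hx
      refine Submodule.smul_induction_on hx (fun r hr m _ => ?_) ?_
      · obtain ⟨K, u, hu⟩ := hs m
        exact ⟨K, r • u, fun q => by simpa using Ideal.mul_mem_right _ _ hr,
          by rw [smul_comm, ← hu, map_smul]⟩
      · rintro x y ⟨K, u, hu, hx⟩ ⟨L, w, hw, hy⟩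
        refine ⟨K + L, f ^ L • u + f ^ K • w, fun q => ?_, ?_⟩
        · simpa using add_mem (Ideal.mul_mem_left _ _ (hu q)) (Ideal.mul_mem_left _ _ (hw q))
        · rw [smul_add, map_add, map_smul, map_smul, ← hx, ← hy, ← mul_smul, ← mul_smul, ← pow_add,
            ← pow_add, add_comm L K]
    obtain ⟨K, u, hu, hK⟩ := key _ hv
    have he : f ^ K • v = u := hφ (by rw [map_smul]; exact hK)
    have hq := hu q
    rw [← he, Finsupp.smul_apply, smul_eq_mul] at hq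
    exact (h𝔪.mem_or_mem hq).resolve_left fun h' => hf𝔪 (h𝔪.mem_of_pow_mem K h')
  let e : ι → ι →₀ R := fun p => Finsupp.single p 1
  choose k w hw using fun p => hs (ψ (φ (e p)))
  have hmem : ∀ 𝔪 : Ideal R, 𝔪.IsMaximal → f * g ∉ 𝔪 →
      ∃ c : R, ∀ p q, (w p - (c * f ^ k p) • e p : ι →₀ R) q ∈ 𝔪 := by
    intro 𝔪 h𝔪 hfg
    obtain ⟨c, hc⟩ := h 𝔪 h𝔪 fun hg' => hfg (Ideal.mul_mem_left _ _ hg')
    refine ⟨c, fun p q => hcoord 𝔪 h𝔪.isPrime (fun hf' => hfg (Ideal.mul_mem_right _ _ hf')) _ ?_ q⟩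
    rw [map_sub, map_smul, hw, mul_comm, mul_smul, ← smul_sub]
    exact Submodule.smul_mem _ _ (hc _)
  have hne : f * g ≠ 0 := mul_ne_zero hf hg
  have hoff : ∀ p q, p ≠ q → w p q = 0 := fun p q hpq =>
    eq_zero_of_forall_maximal hne fun 𝔪 h𝔪 hfg => by
      obtain ⟨c, hc⟩ := hmem 𝔪 h𝔪 hfg
      simpa [e, Finsupp.single_eq_of_ne hpq.symm] using hc p q
  have hdiag : ∀ p q, w p p * f ^ k q = w q q * f ^ k p := fun p q => sub_eq_zero.1 <|
    eq_zero_of_forall_maximal hne fun 𝔪 h𝔪 hfg => by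
      obtain ⟨c, hc⟩ := hmem 𝔪 h𝔪 hfg
      have h1 : w p p - c * f ^ k p ∈ 𝔪 := by simpa [e] using hc p p
      have h2 : w q q - c * f ^ k q ∈ 𝔪 := by simpa [e] using hc q q
      have := sub_mem (Ideal.mul_mem_right (f ^ k q) _ h1) (Ideal.mul_mem_right (f ^ k p) _ h2)
      convert this using 1
      ring
  have hwe : ∀ p, w p = w p p • e p := fun p => Finsupp.ext fun q => by
    by_cases hpq : p = q
    · subst hpq; simp [e]
    · simp [e, hoff p q hpq, Finsupp.single_eq_of_ne (Ne.symm hpq)]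
  by_cases hι : Nonempty ι
  · obtain ⟨p₀⟩ := hι
    refine ⟨w p₀ p₀, f ^ k p₀, pow_ne_zero _ hf, fun m => ?_⟩
    let D : M →ₗ[R] M := f ^ k p₀ • ψ - w p₀ p₀ • LinearMap.id
    have hD : D ∘ₗ φ = 0 := by
      refine Finsupp.lhom_ext fun p r => ?_
      suffices D (φ (e p)) = 0 by
        rw [show Finsupp.single p r = r • e p by simp [e], map_smul, map_smul, LinearMap.comp_apply,
          this, smul_zero]
        simp
      refine htf (f ^ k p) _ (pow_ne_zero _ hf) ?_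
      have h1 : f ^ k p • ψ (φ (e p)) = w p p • φ (e p) := by
        rw [← hw p, hwe p, map_smul]
        simp [e]
      simp only [D, LinearMap.sub_apply, LinearMap.smul_apply, LinearMap.id_apply, smul_sub]
      rw [smul_comm, h1, ← mul_smul, ← mul_smul, mul_comm, hdiag p p₀, mul_comm, sub_self]
    obtain ⟨K, u, hu⟩ := hs m
    have h2 : D m = 0 := htf (f ^ K) _ (pow_ne_zero _ hf) (by
      rw [← map_smul, ← hu]; exact LinearMap.congr_fun hD u)
    exact sub_eq_zero.1 (by simpa [D] using h2)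
  · haveI : IsEmpty ι := not_nonempty_iff.1 hι
    refine ⟨0, 1, one_ne_zero, fun m => ?_⟩
    obtain ⟨K, u, hu⟩ := hs m
    have : m = 0 := htf (f ^ K) _ (pow_ne_zero _ hf) (by rw [← hu, Subsingleton.elim u 0, map_zero])
    simp [this]

end Groth.CohTwo.EllSimple
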