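import Groth.Agent.Variety2.DimScheme
import Groth.Agent.Variety2.DimFiber
import Groth.Agent.CohTwo.PureDepth
import Groth.Agent.SchemeMorphisms.Ass
import Groth.Prelude.Def_ShStab

/-!
# Codimension inside the support of a pure sheaf
-/

universe u

open CategoryTheory CategoryTheory.Limits AlgebraicGeometry TopologicalSpace Topology
open Groth.Variety2

namespace Groth.CohTwo.EllSimple

variable {k : Type u} [Field k] {X : Scheme.{u}} (f : X ⟶ Spec (CommRingCat.of k)) [LocallyOfFiniteType f]

/-- Generizations of a point inside a closed set are quasi-sober. -/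
theorem quasiSober_gens {C : Set X} (hC : IsClosed C) (z : X) :
    QuasiSober {t : X // t ∈ C ∧ t ⤳ z} := by
  refine ⟨fun {F} hF hFc => ?_⟩
  obtain ⟨u₀, hu₀⟩ := hF.nonempty
  let G : Set X := closure (Subtype.val '' F)
  have hG : IsIrreducible G :=
    (hF.image _ continuous_subtype_val.continuousOn).closure
  obtain ⟨t, ht⟩ := QuasiSober.sober hG isClosed_closure
  have hGC : G ⊆ C := closure_minimal (by rintro _ ⟨v, -, rfl⟩; exact v.2.1) hC
  have hspec : ∀ v ∈ F, t ⤳ (v : X) := fun v hv => ht.specializes (subset_closure ⟨v, hv, rfl⟩)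
  have htC : t ∈ C := hGC ht.mem
  refine ⟨⟨t, htC, (hspec u₀ hu₀).trans u₀.2.2⟩, ?_⟩
  refine Set.Subset.antisymm (fun v hv => ?_) fun v hv => ?_
  · obtain ⟨Z, hZ, rfl⟩ := isClosed_induced_iff.1 hFc
    have h1 : G ⊆ Z := closure_minimal (Set.image_preimage_subset _ _) hZ
    have h2 : (v : X) ∈ closure ({t} : Set X) := by
      have := (specializes_iff_mem_closure.2 hv : _ ⤳ v)
      exact specializes_iff_mem_closure.1 ((subtype_specializes_iff _ _).1 this)
    exact closure_minimal (Set.singleton_subset_iff.2 (h1 ht.mem)) hZ h2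
  · exact specializes_iff_mem_closure.1 ((subtype_specializes_iff _ _).2 (hspec v hv))

/-- The dimension of the generizations is the length of chains of points. -/
theorem dim_gens_eq {C : Set X} (hC : IsClosed C) (z : X) :
    topologicalKrullDim {t : X // t ∈ C ∧ t ⤳ z} = Order.krullDim {t : X // t ∈ C ∧ t ⤳ z} := by
  have : QuasiSober {t : X // t ∈ C ∧ t ⤳ z} := quasiSober_gens hC z
  rw [topologicalKrullDim,
    @Order.krullDim_eq_of_orderIso _ {t : X // t ∈ C ∧ t ⤳ z} _
      (specializationOrder (X := {t : X // t ∈ C ∧ t ⤳ z})).toPreorder irreducibleSetEquivPoints]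
  congr 1
  ext a b
  exact subtype_specializes_iff _ _

include f in
/-- Codimension is at most total dimension minus dimension of the closure. -/
theorem dim_gens_le {C : Set X} (hC : IsClosed C) (z : X) {d m : ℕ}
    (hd : ∀ t ∈ C, Order.height t ≤ d) (hm : Order.height z = m) :
    topologicalKrullDim {t : X // t ∈ C ∧ t ⤳ z} ≤ ((d - m : ℕ) : WithBot ℕ∞) := by
  rw [dim_gens_eq hC z, Order.krullDim]
  refine iSup_le fun l => ?_
  let l' : LTSeries X := l.map Subtype.val fun _ _ hab => hab
  have h1 : (m : ℕ∞) + l.length ≤ d := by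
    rw [← hm]
    calc Order.height z + l.length ≤ Order.height l'.head + l'.length :=
          add_le_add (Order.height_mono (Scheme.le_iff_specializes.2 l.head.2.2)) le_rfl
      _ ≤ Order.height l'.last := Dim.height_add_length_le f l'
      _ ≤ d := hd (l.last : X) l.last.2.1
  have h2 : m + l.length ≤ d := by exact_mod_cast h1
  exact_mod_cast (show l.length ≤ d - m by omega)

include f in
/-- A chain from a point to a generization realises the difference of the dimensions of closures. -/
theorem exists_series {z η : X} (h : z ≤ η) {m n : ℕ} (hm : Order.height z = m)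
    (hn : Order.height η = n) :
    ∃ l : LTSeries X, l.head = z ∧ l.last ≤ η ∧ n - m ≤ l.length := by
  induction j : n - m generalizing z m with
  | zero => exact ⟨RelSeries.singleton _ z, rfl, h, Nat.zero_le _⟩
  | succ j ih =>
    have hne : z < η := by
      refine lt_of_le_not_ge h fun h' => ?_
      have := Order.height_mono h'
      rw [hn, hm] at this
      have : n ≤ m := by exact_mod_cast this
      omega
    obtain ⟨c, hc, hcη⟩ := Dim.exists_covBy_of_lt f hne
    have hcm : Order.height c = (m + 1 : ℕ) := by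
      rw [Dim.height_eq_of_covBy f hc, hm]; norm_cast
    obtain ⟨l, hl1, hl2, hl3⟩ := ih hcη hcm (by omega)
    exact ⟨l.cons z (hl1 ▸ hc.lt), RelSeries.head_cons .., (RelSeries.last_cons ..).symm ▸ hl2,
      by simp only [RelSeries.cons_length]; omega⟩

include f in
/-- Codimension is at least the difference of the dimensions of closures. -/
theorem le_dim_gens {C : Set X} (hC : IsClosed C) {z η : X} (h : η ⤳ z) (hη : η ∈ C) {m n : ℕ}
    (hm : Order.height z = m) (hn : Order.height η = n) :
    ((n - m : ℕ) : WithBot ℕ∞) ≤ topologicalKrullDim {t : X // t ∈ C ∧ t ⤳ z} := by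
  rw [dim_gens_eq hC z]
  obtain ⟨l, hl1, hl2, hl3⟩ := exists_series f (Scheme.le_iff_specializes.2 h) hm hn
  have hmem : ∀ i, l i ∈ C ∧ l i ⤳ z := fun i =>
    ⟨(Scheme.le_iff_specializes.1 ((l.monotone (Fin.le_last i)).trans hl2)).mem_closed hC hη,
      hl1 ▸ Scheme.le_iff_specializes.1 (l.monotone (Fin.zero_le i))⟩
  let l' : LTSeries {t : X // t ∈ C ∧ t ⤳ z} :=
    LTSeries.mk l.length (fun i => ⟨l i, hmem i⟩) fun i j hij => l.strictMono hij
  refine le_trans ?_ (Order.LTSeries.length_le_krullDim l')
  exact_mod_cast hl3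

include f in
/-- Points of the support of a pure sheaf have a `d`-dimensional generization in the support. -/
theorem exists_generization [IsLocallyNoetherian X] {E : X.Modules} {d : ℕ} (hE : Coh.IsCoh E)
    (hp : ShStab.IsPure X E d) (h0 : ¬ IsZero E) :
    (∀ t ∈ CohB1.support E, Order.height t ≤ d) ∧
      ∀ z ∈ CohB1.support E, ∃ η ∈ CohB1.support E, η ⤳ z ∧ Order.height η = d := by
  have hcl := Groth.CohTwo.isClosed_support E hE
  have hle : ∀ t ∈ CohB1.support E, Order.height t ≤ d := fun t ht => by
    have h := hp E (𝟙 E) inferInstance hE h0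
    have h2 : ((Order.height t : ℕ∞) : WithBot ℕ∞) ≤ (d : WithBot ℕ∞) := by
      rw [← h, Dim.dim_closed hcl]
      exact le_iSup₂ (f := fun x (_ : x ∈ CohB1.support E) => ((Order.height x : ℕ∞) : WithBot ℕ∞)) t ht
    exact_mod_cast h2
  refine ⟨hle, fun z hz => ?_⟩
  obtain ⟨m, hm⟩ := Dim.exists_height_eq f z
  induction j : d - m using Nat.strong_induction_on generalizing z m with
  | _ j ih =>
    by_cases hmax : ∀ y ∈ CohB1.support E, y ⤳ z → y = z
    · refine ⟨z, hz, specializes_rfl, ?_⟩
      have hass := ((Groth.SchemeMorphisms.maximal_ass_iff_maximal_support hE.1 z).2 ⟨hz, hmax⟩).1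
      obtain ⟨F, i, hi, hFc, hF0, hsupp⟩ := Groth.CohTwo.PureDepth.exists_sub hE hass
      have h := hp F i hi hFc hF0
      refine le_antisymm (hle z hz) ?_
      have h2 : (d : WithBot ℕ∞) ≤ ((Order.height z : ℕ∞) : WithBot ℕ∞) := by
        rw [← h, ← Dim.dim_closure_singleton z,
          Dim.dim_closed (Groth.CohTwo.isClosed_support F hFc), Dim.dim_closed isClosed_closure]
        exact iSup₂_le fun w hw =>
          le_iSup₂ (f := fun w (_ : w ∈ closure ({z} : Set X)) => ((Order.height w : ℕ∞) : WithBot ℕ∞)) w (hsupp hw)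
      exact_mod_cast h2
    · push Not at hmax
      obtain ⟨y, hy, hyz, hne⟩ := hmax
      obtain ⟨n, hn⟩ := Dim.exists_height_eq f y
      have hlt := Dim.height_toNat_lt f (a := z) (b := y) (Dim.lt_iff.2 ⟨hyz, fun h => hne h.symm⟩)
      rw [hm, hn] at hlt
      have h1 : m < n := by exact_mod_cast hlt
      have h2 : n ≤ d := by
        have := hle y hy
        rw [hn] at this
        exact_mod_cast this
      obtain ⟨η, hη, hηy, hd⟩ := ih (d - n) (by omega) y hy n hn rfl
      exact ⟨η, hη, hηy.trans hyz, hd⟩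

end Groth.CohTwo.EllSimple
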