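import Groth.Agent.LocFree.ExtPullback
import Groth.Agent.QCohMod.PullbackSections
import Groth.Agent.ModEtQCoh.Algebra
import Mathlib.AlgebraicGeometry.Morphisms.Flat
import Mathlib.RingTheory.Localization.BaseChange
import Groth.Agent.CohTwo.Glue

/-!
# Sections of a quasi-coherent module on a fibre over affine opens
-/

universe u

open CategoryTheory CategoryTheory.Limits AlgebraicGeometry TensorProduct
open Groth.PicAux (pullSec)
open Groth.QCohMod (sectionsAlg)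

set_option backward.isDefEq.respectTransparency.types false

namespace Groth.CohTwo.EllSimple

variable {Z Z' S T : Scheme.{u}} {k : Z' ⟶ Z} {q' : Z' ⟶ T} {q : Z ⟶ S} {t : T ⟶ S}

/-- Functions of the base acting over an open. -/
noncomputable abbrev baseFn (q : Z ⟶ S) (V : Z.Opens) : Γ(S, ⊤) →+* Γ(Z, V) :=
  (q.appLE ⊤ V le_top).hom

/-- Functions of the base on the pullback, computed in two ways. -/
theorem baseFn_comm (H : IsPullback k q' q t) (V : Z.Opens) (r : Γ(S, ⊤)) :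
    k.app V (baseFn q V r) = baseFn q' (k ⁻¹ᵁ V) (t.appTop r) := by
  have ht : t.appTop = t.appLE ⊤ ⊤ le_top := by simp [Scheme.Hom.appLE]
  rw [Scheme.Hom.app_eq_appLE, ht]
  change (q.appLE ⊤ V le_top ≫ k.appLE V (k ⁻¹ᵁ V) le_rfl) r =
    (t.appLE ⊤ ⊤ le_top ≫ q'.appLE ⊤ (k ⁻¹ᵁ V) le_top) r
  rw [Scheme.Hom.appLE_comp_appLE, Scheme.Hom.appLE_comp_appLE]
  congr 2
  simp only [H.w]

variable [IsAffine S] [IsAffine T]

/-- The affine pieces of a pullback. -/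
theorem isAffineOpen_preimage (H : IsPullback k q' q t) {V : Z.Opens} (hV : IsAffineOpen V) :
    IsAffineOpen (k ⁻¹ᵁ V) := by
  haveI : IsAffineHom t := inferInstance
  haveI : IsAffineHom k := MorphismProperty.of_isPullback H.flip inferInstance
  exact hV.preimage k

set_option maxHeartbeats 400000 in
/-- Sections of the pullback over an affine open are the base change. -/
theorem exists_isBaseChange (H : IsPullback k q' q t) (M : Z.Modules) [M.IsQuasicoherent]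
    {V : Z.Opens} (hV : IsAffineOpen V) :
    letI := Module.compHom Γ(M, V) (baseFn q V)
    letI := t.appTop.hom.toAlgebra
    letI := Module.compHom Γ((Scheme.Modules.pullback k).obj M, k ⁻¹ᵁ V) (baseFn q' (k ⁻¹ᵁ V))
    letI := Module.compHom Γ((Scheme.Modules.pullback k).obj M, k ⁻¹ᵁ V)
      ((baseFn q' (k ⁻¹ᵁ V)).comp t.appTop.hom)
    haveI : IsScalarTower Γ(S, ⊤) Γ(T, ⊤) Γ((Scheme.Modules.pullback k).obj M, k ⁻¹ᵁ V) :=
      IsScalarTower.of_algebraMap_smul fun _ _ => rfl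
    ∃ η : Γ(M, V) →ₗ[Γ(S, ⊤)] Γ((Scheme.Modules.pullback k).obj M, k ⁻¹ᵁ V),
      (∀ m, η m = pullSec k M m) ∧ IsBaseChange Γ(T, ⊤) η := by
  let N := Γ((Scheme.Modules.pullback k).obj M, k ⁻¹ᵁ V)
  let A := Γ(Z, V)
  let B := Γ(Z', k ⁻¹ᵁ V)
  letI mM := Module.compHom Γ(M, V) (baseFn q V)
  letI aT := t.appTop.hom.toAlgebra
  letI mTN := Module.compHom N (baseFn q' (k ⁻¹ᵁ V))
  letI mSN := Module.compHom N ((baseFn q' (k ⁻¹ᵁ V)).comp t.appTop.hom)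
  letI aA : Algebra Γ(S, ⊤) A := (baseFn q V).toAlgebra
  letI aAB : Algebra A B := sectionsAlg k (le_refl (k ⁻¹ᵁ V))
  letI aTB : Algebra Γ(T, ⊤) B := (baseFn q' (k ⁻¹ᵁ V)).toAlgebra
  letI aSB : Algebra Γ(S, ⊤) B := ((baseFn q' (k ⁻¹ᵁ V)).comp t.appTop.hom).toAlgebra
  letI mAN : Module A N := Module.compHom _ (k.appLE V (k ⁻¹ᵁ V) le_rfl).hom
  haveI : IsScalarTower A B N := IsScalarTower.of_algebraMap_smul fun _ _ => rfl
  haveI : IsScalarTower Γ(T, ⊤) B N := IsScalarTower.of_algebraMap_smul fun _ _ => rfl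
  haveI : IsScalarTower Γ(S, ⊤) Γ(T, ⊤) N := IsScalarTower.of_algebraMap_smul fun _ _ => rfl
  haveI : IsScalarTower Γ(S, ⊤) A Γ(M, V) := IsScalarTower.of_algebraMap_smul fun _ _ => rfl
  have hcomm : ∀ r, k.appLE V (k ⁻¹ᵁ V) le_rfl (baseFn q V r) =
      baseFn q' (k ⁻¹ᵁ V) (t.appTop r) := fun r => by
    rw [← Scheme.Hom.app_eq_appLE]; exact baseFn_comm H V r
  haveI : IsScalarTower Γ(S, ⊤) A B := IsScalarTower.of_algebraMap_eq fun r => (hcomm r).symm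
  haveI : IsScalarTower Γ(S, ⊤) Γ(T, ⊤) B := IsScalarTower.of_algebraMap_eq fun _ => rfl
  haveI : IsScalarTower Γ(S, ⊤) A N := IsScalarTower.of_algebraMap_smul fun r n => by
    change k.appLE V (k ⁻¹ᵁ V) le_rfl (baseFn q V r) • n = baseFn q' (k ⁻¹ᵁ V) (t.appTop r) • n
    rw [hcomm]
  have hiso := isIso_pushoutSection_of_isAffineOpen H (US := ⊤) (UT := ⊤) (UX := V)
    (UY := k ⁻¹ᵁ V) le_top le_top (by simp) (isAffineOpen_top S) (isAffineOpen_top T) hV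
  have hpo := (isIso_pushoutSection_iff H (US := ⊤) (UT := ⊤) (UX := V) (UY := k ⁻¹ᵁ V)
    le_top le_top (by simp)).1 hiso
  have e1 : q.appLE ⊤ V le_top = CommRingCat.ofHom (algebraMap Γ(S, ⊤) A) := rfl
  have e2 : t.appLE ⊤ ⊤ le_top = CommRingCat.ofHom (algebraMap Γ(S, ⊤) Γ(T, ⊤)) := by
    simp [Scheme.Hom.appLE]; rfl
  haveI : Algebra.IsPushout Γ(S, ⊤) Γ(T, ⊤) A B := by
    refine CommRingCat.isPushout_iff_isPushout.1 ?_
    rw [← e1, ← e2]
    exact hpo.flip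
  have hbc : IsBaseChange B (Groth.LocFree.pullSecₗ k M (le_refl (k ⁻¹ᵁ V))) :=
    Groth.LocFree.isBaseChange_pullSecₗ k M le_rfl hV (isAffineOpen_preimage H hV)
  have h2 := Groth.ModEtQCoh.isBaseChange_of_isPushout (A := Γ(S, ⊤)) (A' := Γ(T, ⊤)) hbc
  refine ⟨(Groth.LocFree.pullSecₗ k M (le_refl (k ⁻¹ᵁ V))).restrictScalars Γ(S, ⊤), fun m => ?_, h2⟩
  exact Groth.CohTwo.res_rfl _ _ _

/-- Over a closed point a section vanishes exactly when it is divisible by the maximal ideal. -/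
theorem mem_smul_of_pullSec_eq_zero (H : IsPullback k q' q t) (M : Z.Modules) [M.IsQuasicoherent]
    {V : Z.Opens} (hV : IsAffineOpen V) (hsurj : Function.Surjective t.appTop) (m : Γ(M, V))
    (hm : pullSec k M m = 0) :
    letI := Module.compHom Γ(M, V) (baseFn q V)
    m ∈ RingHom.ker t.appTop.hom • (⊤ : Submodule Γ(S, ⊤) Γ(M, V)) := by
  letI mM := Module.compHom Γ(M, V) (baseFn q V)
  letI aT := t.appTop.hom.toAlgebra
  letI := Module.compHom Γ((Scheme.Modules.pullback k).obj M, k ⁻¹ᵁ V) (baseFn q' (k ⁻¹ᵁ V))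
  letI := Module.compHom Γ((Scheme.Modules.pullback k).obj M, k ⁻¹ᵁ V)
    ((baseFn q' (k ⁻¹ᵁ V)).comp t.appTop.hom)
  haveI : IsScalarTower Γ(S, ⊤) Γ(T, ⊤) Γ((Scheme.Modules.pullback k).obj M, k ⁻¹ᵁ V) :=
    IsScalarTower.of_algebraMap_smul fun _ _ => rfl
  obtain ⟨η, hη, hbc⟩ := exists_isBaseChange H M hV
  let K := RingHom.ker (algebraMap Γ(S, ⊤) Γ(T, ⊤))
  have h1 : (1 : Γ(T, ⊤)) ⊗ₜ[Γ(S, ⊤)] m = 0 := hbc.equiv.injective (by
    rw [map_zero, IsBaseChange.equiv_tmul, one_smul, hη, hm])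
  let e : (Γ(S, ⊤) ⧸ K) ≃ₐ[Γ(S, ⊤)] Γ(T, ⊤) :=
    Ideal.quotientKerAlgEquivOfSurjective (f := Algebra.ofId Γ(S, ⊤) Γ(T, ⊤)) hsurj
  have h2 : (1 : Γ(S, ⊤) ⧸ K) ⊗ₜ[Γ(S, ⊤)] m = 0 := by
    apply (TensorProduct.congr e.toLinearEquiv (LinearEquiv.refl _ Γ(M, V))).injective
    rw [map_zero, TensorProduct.congr_tmul, LinearEquiv.refl_apply,
      show e.toLinearEquiv 1 = 1 from map_one e]
    exact h1
  have h3 := congrArg (TensorProduct.quotTensorEquivQuotSMul Γ(M, V) K) h2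
  rw [map_zero, show (1 : Γ(S, ⊤) ⧸ K) = Ideal.Quotient.mk K 1 from rfl,
    TensorProduct.quotTensorEquivQuotSMul_mk_tmul, one_smul, Submodule.Quotient.mk_eq_zero] at h3
  exact h3

/-- Over the generic point sections are fractions. -/
theorem pullSec_generic (H : IsPullback k q' q t) (M : Z.Modules) [M.IsQuasicoherent]
    {V : Z.Opens} (hV : IsAffineOpen V) [IsDomain Γ(S, ⊤)]
    (hfrac : letI := t.appTop.hom.toAlgebra
      IsFractionRing Γ(S, ⊤) Γ(T, ⊤)) :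
    (∀ y : Γ((Scheme.Modules.pullback k).obj M, k ⁻¹ᵁ V), ∃ (g : Γ(S, ⊤)) (m : Γ(M, V)), g ≠ 0 ∧
      baseFn q' (k ⁻¹ᵁ V) (t.appTop g) • y = pullSec k M m) ∧
    ∀ m : Γ(M, V), pullSec k M m = 0 → ∃ g : Γ(S, ⊤), g ≠ 0 ∧ baseFn q V g • m = 0 := by
  letI mM := Module.compHom Γ(M, V) (baseFn q V)
  letI aT := t.appTop.hom.toAlgebra
  letI := Module.compHom Γ((Scheme.Modules.pullback k).obj M, k ⁻¹ᵁ V) (baseFn q' (k ⁻¹ᵁ V))
  letI := Module.compHom Γ((Scheme.Modules.pullback k).obj M, k ⁻¹ᵁ V)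
    ((baseFn q' (k ⁻¹ᵁ V)).comp t.appTop.hom)
  haveI : IsScalarTower Γ(S, ⊤) Γ(T, ⊤) Γ((Scheme.Modules.pullback k).obj M, k ⁻¹ᵁ V) :=
    IsScalarTower.of_algebraMap_smul fun _ _ => rfl
  obtain ⟨η, hη, hbc⟩ := exists_isBaseChange H M hV
  haveI : IsLocalization (nonZeroDivisors Γ(S, ⊤)) Γ(T, ⊤) := hfrac
  haveI hl : IsLocalizedModule (nonZeroDivisors Γ(S, ⊤)) η :=
    (isLocalizedModule_iff_isBaseChange (nonZeroDivisors Γ(S, ⊤)) Γ(T, ⊤) η).2 hbc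
  refine ⟨fun y => ?_, fun m hm => ?_⟩
  · obtain ⟨⟨m, g⟩, hg⟩ := IsLocalizedModule.surj (nonZeroDivisors Γ(S, ⊤)) η y
    exact ⟨g, m, nonZeroDivisors.coe_ne_zero g, hg.trans (hη m)⟩
  · obtain ⟨g, hg⟩ := (IsLocalizedModule.eq_zero_iff (nonZeroDivisors Γ(S, ⊤)) η).1 ((hη m).trans hm)
    exact ⟨g, nonZeroDivisors.coe_ne_zero g, hg⟩

end Groth.CohTwo.EllSimple
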