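import Mathlib.AlgebraicGeometry.Morphisms.ClosedImmersion
import Mathlib.AlgebraicGeometry.Morphisms.Preimmersion
import Mathlib.AlgebraicGeometry.AffineScheme

/-!
# Functions of an affine scheme at a field-valued point
-/

universe u

open CategoryTheory AlgebraicGeometry

namespace Groth.CohTwo.EllSimple

variable {A T : Scheme.{u}} [IsAffine A] [IsAffine T] (t : T ⟶ A)

/-- The kernel of evaluation at a field-valued point is the prime of its image. -/
theorem ker_appTop (hF : IsField Γ(T, ⊤)) (p : T) :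
    RingHom.ker t.appTop.hom = (A.isoSpec.hom (t p)).asIdeal := by
  haveI : Fact (IsField Γ(T, ⊤)) := ⟨hF⟩
  letI := hF.toField
  let P : PrimeSpectrum Γ(T, ⊤) := T.isoSpec.hom p
  have h0 : P.asIdeal = ⊥ := (Ideal.eq_bot_or_top P.asIdeal).resolve_right P.isPrime.ne_top
  have h1 : A.isoSpec.hom (t p) = PrimeSpectrum.comap t.appTop.hom P := by
    rw [← Scheme.Hom.comp_apply, ← Scheme.isoSpec_hom_naturality]
    rfl
  rw [h1]
  change RingHom.ker t.appTop.hom = Ideal.comap t.appTop.hom P.asIdeal
  rw [h0]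
  rfl

/-- At a preimmersed field-valued point every element is a fraction of functions. -/
theorem exists_fraction [IsPreimmersion t] (hF : IsField Γ(T, ⊤)) (c : Γ(T, ⊤)) :
    ∃ r g : Γ(A, ⊤), t.appTop g ≠ 0 ∧ t.appTop g * c = t.appTop r := by
  letI := hF.toField
  haveI : IsPreimmersion (Spec.map t.appTop) := by
    have h : Spec.map t.appTop = T.isoSpec.inv ≫ t ≫ A.isoSpec.hom := by
      rw [← Scheme.isoSpec_hom_naturality, Iso.inv_hom_id_assoc]
    rw [h]
    infer_instance
  have hs := ((IsPreimmersion.SpecMap_iff t.appTop).1 inferInstance).2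
  obtain ⟨r, g, d, hd, hg, he⟩ := RingHom.surjectiveOnStalks_iff_forall_ideal.1 hs ⊥ bot_ne_top c
  rw [Ideal.mem_bot] at hd hg
  refine ⟨r, g, hg, mul_left_cancel₀ hd ?_⟩
  rw [← mul_assoc]
  exact he

end Groth.CohTwo.EllSimple
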