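import Groth.Agent.CohTwo.EllSimple.Scalar
import Groth.Agent.CohTwo.EllSimple.Dim
import Groth.Agent.CohTwo.EllSimple.Points
import Groth.Agent.FibreDim.Semicontinuity
import Groth.Agent.QCohMod.SupportPullback
import Groth.Agent.AlgGrp1.FiniteHom
import Groth.Agent.SheafExt.Coherent
import Groth.Agent.DerivedCoh.PCohNil.FlatFP
import Groth.Agent.FlatMorOne.GoodLocus
import Groth.Agent.CohTwo.SupportLocal
import Groth.Prelude.Def_ega3
import Mathlib.AlgebraicGeometry.Morphisms.UniversallyClosed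
import Mathlib.RingTheory.Jacobson.Ring

/-!
# ℓ-simplicity passes from the closed fibres to the generic fibre
-/

universe u

open CategoryTheory CategoryTheory.Limits AlgebraicGeometry TopologicalSpace Topology Opposite

set_option backward.isDefEq.respectTransparency.types false

namespace Groth.CohTwo.EllSimple

variable {X : Scheme.{u}}

/-- Being scalar only depends on the module up to isomorphism. -/
theorem isScalar_of_iso {T : Scheme.{u}} {q : X ⟶ T} {M N : X.Modules} (e : M ≅ N) {φ : N ⟶ N}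
    (h : IsScalar q φ) : IsScalar q (e.hom ≫ φ ≫ e.inv) := by
  obtain ⟨c, hc⟩ := h
  refine ⟨c, fun V x => ?_⟩
  change e.inv.app V (φ.app V (e.hom.app V x)) = _
  rw [hc, e.inv.app_smul]
  congr 1
  exact congr($(e.hom_inv_id).app V x)

/-- Scalar endomorphisms of a restriction, in the form read on sections of the whole scheme. -/
theorem isScalar_restrict_iff {K : CommRingCat.{u}} (q : X ⟶ Spec K) (M : X.Modules) (U : X.Opens)
    (φ : (Scheme.Modules.restrictFunctor U.ι).obj M ⟶ (Scheme.Modules.restrictFunctor U.ι).obj M)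
    (c : Γ(Spec K, ⊤)) (V : (U : Scheme.{u}).Opens)
    (x : (M.val.obj (op (U.ι ''ᵁ V)))) :
    (φ.app V) ((Scheme.Modules.restrictAppIso U.ι M V).inv x) =
        (Scheme.Modules.restrictAppIso U.ι M V).inv
          (((X.ringCatSheaf.obj.map (homOfLE (le_top : U.ι ''ᵁ V ≤ ⊤)).op
            (Coh.toGlobal q ((Scheme.ΓSpecIso K).hom c))) • x)) ↔
      φ.app V ((Scheme.Modules.restrictAppIso U.ι M V).inv x) =
        baseFn (U.ι ≫ q) V c • (Scheme.Modules.restrictAppIso U.ι M V).inv x := by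
  have h0 : Coh.toGlobal q ((Scheme.ΓSpecIso K).hom c) = q.appTop c := by
    change q.appTop ((Scheme.ΓSpecIso K).inv ((Scheme.ΓSpecIso K).hom c)) = _
    rw [← ConcreteCategory.comp_apply (Scheme.ΓSpecIso K).hom, Iso.hom_inv_id]
    rfl
  let r : Γ(X, U.ι ''ᵁ V) := X.presheaf.map (homOfLE (le_top : U.ι ''ᵁ V ≤ ⊤)).op (q.appTop c)
  have h1 : (U.ι.appIso V).inv (baseFn (U.ι ≫ q) V c) = r := by
    change ((U.ι ≫ q).appLE ⊤ V le_top ≫ (U.ι.appIso V).inv) c = (q.appTop ≫ X.presheaf.map _) c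
    rw [Scheme.Hom.comp_appLE, Category.assoc, Scheme.Hom.appLE_appIso_inv]
    rfl
  rw [h0]
  refine Eq.congr_right ?_
  refine Eq.trans ?_ (congrArg (fun a => (Scheme.Modules.restrictAppIso U.ι M V).inv
    ((a : Γ(X, U.ι ''ᵁ V)) • x)) h1).symm
  rfl

/-- The dimension of a fibre of a closed subscheme, read in the fibre of the ambient scheme. -/
theorem dim_fiber_closed {Y S B : Scheme.{u}} (f : Y ⟶ S) (i : B ⟶ Y) [IsPreimmersion i] (s : S) :
    topologicalKrullDim ↥((i ≫ f).fiber s) =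
      topologicalKrullDim {z : f.fiber s // (f.fiberι s) z ∈ Set.range i} := by
  let a : ↥((i ≫ f).fiber s) → Y := i ∘ (i ≫ f).fiberι s
  let b : {z : f.fiber s // (f.fiberι s) z ∈ Set.range i} → Y := f.fiberι s ∘ Subtype.val
  have ha : IsEmbedding a := i.isEmbedding.comp ((i ≫ f).fiberι s).isEmbedding
  have hb : IsEmbedding b := (f.fiberι s).isEmbedding.comp IsEmbedding.subtypeVal
  have hr : Set.range a = Set.range b := by
    ext y
    constructor
    · rintro ⟨w, rfl⟩
      obtain ⟨z, hz⟩ : a w ∈ Set.range (f.fiberι s) := by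
        rw [f.range_fiberι]
        exact Groth.FibreDim.apply_fiberι (i ≫ f) s w
      exact ⟨⟨z, hz ▸ ⟨_, rfl⟩⟩, hz⟩
    · rintro ⟨⟨z, w, hw⟩, rfl⟩
      obtain ⟨w', hw'⟩ : w ∈ Set.range ((i ≫ f).fiberι s) := by
        rw [(i ≫ f).range_fiberι]
        show f.base (i w) = s
        rw [hw]
        exact Groth.FibreDim.apply_fiberι f s z
      exact ⟨w', (congrArg i hw').trans hw⟩
  exact IsHomeomorph.topologicalKrullDim_eq _
    (ha.toHomeomorph.trans ((Homeomorph.setCongr hr).trans hb.toHomeomorph.symm)).isHomeomorph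

set_option maxHeartbeats 1600000 in
/-- The generic fibre is ℓ-simple if the closed fibres are. -/
theorem ellSimple_generic (k : Type u) [Field k]
    (S : Scheme.{u}) (q : S ⟶ Spec (CommRingCat.of k)) [IsIntegral S] [LocallyOfFiniteType q] [CompactSpace S]
    (Y : Scheme.{u}) (f : Y ⟶ S) [IsProper f]
    (d ℓ : ℕ) (E : Y.Modules) (hE : Coh.IsCoh E) (hfl : FlatMod.IsFlatOver f E)
    (hfib : ∀ s : S, ¬ IsZero (CohIII.fiberMod f E s) ∧ ShStab.IsPure (Over.mk (f.fiberToSpecResidueField s)).left (CohIII.fiberMod f E s) d)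
    (hsimple : ∀ s : S, IsClosed ({s} : Set S) →
      ∀ U : (f.fiber s).Opens,
        (∀ z : ↥(f.fiber s), z ∉ U → z ∈ CohB1.support (CohIII.fiberMod f E s) →
          ((ℓ : WithBot ℕ∞) + 1 ≤ topologicalKrullDim {t : ↥(f.fiber s) // t ∈ CohB1.support (CohIII.fiberMod f E s) ∧ t ⤳ z})) →
        ∀ u, IsScalar (U.ι ≫ f.fiberToSpecResidueField s)
          (M := (Scheme.Modules.restrictFunctor U.ι).obj (CohIII.fiberMod f E s)) u)
    (U : (f.fiber (genericPoint S)).Opens)
    (hU : ∀ z : ↥(f.fiber (genericPoint S)), z ∉ U → z ∈ CohB1.support (CohIII.fiberMod f E (genericPoint S)) →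
          ((ℓ : WithBot ℕ∞) + 1 ≤ topologicalKrullDim {t : ↥(f.fiber (genericPoint S)) // t ∈ CohB1.support (CohIII.fiberMod f E (genericPoint S)) ∧ t ⤳ z})) :
    ¬ IsZero ((Scheme.Modules.restrictFunctor U.ι).obj (CohIII.fiberMod f E (genericPoint S))) ∧
    ∀ φ, IsScalar (U.ι ≫ f.fiberToSpecResidueField (genericPoint S))
      (M := (Scheme.Modules.restrictFunctor U.ι).obj (CohIII.fiberMod f E (genericPoint S))) φ := by
  classical
  haveI := hE.1
  let η := genericPoint S
  haveI : IsLocallyNoetherian S := LocallyOfFiniteType.isLocallyNoetherian q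
  haveI : JacobsonSpace S := LocallyOfFiniteType.jacobsonSpace q
  haveI : IsLocallyNoetherian Y := LocallyOfFiniteType.isLocallyNoetherian f
  haveI : CompactSpace Y := QuasiCompact.compactSpace_of_compactSpace f
  haveI : IsNoetherian Y := {}
  haveI hlftF : ∀ s : S, LocallyOfFiniteType (f.fiberToSpecResidueField s) := fun s =>
    MorphismProperty.pullback_snd _ _ inferInstance
  haveI hnoethF : ∀ s : S, IsLocallyNoetherian (f.fiber s) := fun s =>
    LocallyOfFiniteType.isLocallyNoetherian (f.fiberToSpecResidueField s)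
  let fs : ∀ s : S, f.fiber s ⟶ Spec (CommRingCat.of ↑(S.residueField s)) := fun s =>
    f.fiberToSpecResidueField s
  haveI hlftF' : ∀ s : S, LocallyOfFiniteType (fs s) := hlftF
  have hEs : ∀ s : S, Coh.IsCoh (CohIII.fiberMod f E s) := fun s =>
    ⟨Groth.QCohMod.isQCoh_pullback_obj (f.fiberι s) E, Groth.QCohMod.isFT_pullback (f.fiberι s) E hE.2⟩
  have hgen := fun s : S => exists_generization (fs s) (hEs s) (hfib s).2 (hfib s).1
  have hsupp : ∀ s : S, CohB1.support (CohIII.fiberMod f E s) = f.fiberι s ⁻¹' CohB1.support E :=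
    fun s => Groth.QCohMod.support_pullback (f.fiberι s) E hE.2
  let ιη := f.fiberι η
  let Zc : Set (f.fiber η) := (U : Set (f.fiber η))ᶜ
  let Zb : Set Y := closure (ιη '' Zc)
  have hZb : ιη ⁻¹' Zb = Zc := by
    rw [← ιη.isEmbedding.closure_eq_preimage_closure_image, U.isOpen.isClosed_compl.closure_eq]
  let W : Y.Opens := ⟨Zbᶜ, isClosed_closure.isOpen_compl⟩
  let B : Closeds Y := ⟨Zb ∩ CohB1.support E, isClosed_closure.inter (Groth.CohTwo.isClosed_support E hE)⟩
  let I := Scheme.IdealSheafData.vanishingIdeal B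
  let i := I.subschemeι
  have hrange : Set.range i = (B : Set Y) := by
    rw [I.range_subschemeι, Scheme.IdealSheafData.coe_support_vanishingIdeal]
  let f' := i ≫ f
  let c : WithBot ℕ∞ := if ℓ < d then ((d - (ℓ + 1) : ℕ) : WithBot ℕ∞) else ⊥
  have hc : ∀ s : S, topologicalKrullDim ↥(f'.fiber s) ≤ c ↔
      ∀ z : f.fiber s, f.fiberι s z ∈ Zb → z ∈ CohB1.support (CohIII.fiberMod f E s) →
        ∀ m : ℕ, Order.height z = m → m + (ℓ + 1) ≤ d := by
    intro s
    have hset : {z : f.fiber s | f.fiberι s z ∈ Set.range i} =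
        {z | f.fiberι s z ∈ Zb ∧ z ∈ CohB1.support (CohIII.fiberMod f E s)} := by
      rw [hrange, hsupp]; rfl
    rw [dim_fiber_closed f i s]
    have hcl : IsClosed {z : f.fiber s | f.fiberι s z ∈ Set.range i} :=
      (i.isClosedEmbedding.isClosed_range).preimage (f.fiberι s).continuous
    rw [show topologicalKrullDim {z : f.fiber s // f.fiberι s z ∈ Set.range i} =
      topologicalKrullDim ({z : f.fiber s | f.fiberι s z ∈ Set.range i} : Set _) from rfl,
      Groth.Variety2.Dim.dim_closed hcl, iSup₂_le_iff]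
    constructor
    · intro h z hz1 hz2 m hm
      have h1 := h z (hset.ge ⟨hz1, hz2⟩)
      rw [hm] at h1
      by_cases hd : ℓ < d
      · simp only [c, if_pos hd] at h1
        have : m ≤ d - (ℓ + 1) := by
          have h2 : ((m : ℕ∞) : WithBot ℕ∞) ≤ (((d - (ℓ + 1) : ℕ) : ℕ∞) : WithBot ℕ∞) := h1
          exact Nat.cast_le.1 (WithBot.coe_le_coe.1 h2)
        omega
      · simp only [c, if_neg hd, le_bot_iff] at h1
        exact absurd h1 (WithBot.coe_ne_bot)
    · intro h z hz
      obtain ⟨hz1, hz2⟩ := hset.le hz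
      obtain ⟨m, hm⟩ := Groth.Variety2.Dim.exists_height_eq (fs s) z
      have := h z hz1 hz2 m hm
      simp only [c, if_pos (show ℓ < d by omega), hm]
      exact WithBot.coe_le_coe.2 (Nat.cast_le.2 (show m ≤ d - (ℓ + 1) by omega))
  have hη0 : topologicalKrullDim ↥(f'.fiber η) ≤ c := by
    refine (hc η).2 fun z hz1 hz2 m hm => ?_
    have h1 : z ∉ U := (hZb.le hz1 :)
    have h2 := (hU z h1 hz2).trans (dim_gens_le (fs η)
      (Groth.CohTwo.isClosed_support _ (hEs η)) z (hgen η).1 hm)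
    have h3 : ℓ + 1 ≤ d - m := by exact_mod_cast h2
    omega
  refine ⟨fun hz => ?_, fun φ => ?_⟩
  · obtain ⟨z, hz'⟩ : (CohB1.support (CohIII.fiberMod f E η)).Nonempty := by
      rw [Set.nonempty_iff_ne_empty]
      intro h
      refine (hfib η).1 ((Groth.QCohMod.isZero_iff_stalk _).2 fun x => ?_)
      haveI : Subsingleton ((Groth.QCohMod.stalk x).obj (CohIII.fiberMod f E η)) := by
        by_contra hx
        exact (Set.eq_empty_iff_forall_notMem.1 h x) hx
      exact AddCommGrpCat.isZero_of_subsingleton _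
    obtain ⟨η', hη', -, hd⟩ := (hgen η).2 z hz'
    have hnot : η' ∉ U := fun hmem => by
      refine hη' ⟨fun a b => ?_⟩
      refine (Groth.SchemeMorphisms.restrictStalkEquiv U.ι (CohIII.fiberMod f E η) ⟨η', hmem⟩).symm.injective ?_
      haveI := AddCommGrpCat.subsingleton_of_isZero ((Groth.QCohMod.isZero_iff_stalk _).1 hz ⟨η', hmem⟩); exact this.elim _ _
    have := (hc η).1 hη0 η' (hZb.ge hnot) hη' d hd
    omega
  let O : S.Opens := ⟨{s | topologicalKrullDim ↥(f'.fiber s) ≤ c},
    Groth.FibreDim.isOpen_dim_fiber_le f' f'.isClosedMap c⟩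
  obtain ⟨S₀, hS₀, hηS₀, hS₀O⟩ : ∃ S₀ : S.Opens, IsAffineOpen S₀ ∧ η ∈ S₀ ∧
      ∀ s ∈ S₀, topologicalKrullDim ↥(f'.fiber s) ≤ c := by
    obtain ⟨_, ⟨S₀, hS₀, rfl⟩, hm, hle⟩ :=
      S.isBasis_affineOpens.exists_subset_of_mem_open (a := η) (u := (O : Set S)) hη0 O.isOpen
    exact ⟨S₀, hS₀, hm, hle⟩
  haveI : IsAffine S₀.toScheme := hS₀
  haveI : Nonempty S₀.toScheme := ⟨⟨η, hηS₀⟩⟩
  haveI : IsIntegral S₀.toScheme := isIntegral_of_isOpenImmersion S₀.ι
  haveI : IsDomain Γ(S₀.toScheme, ⊤) := inferInstance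
  haveI : IsJacobsonRing Γ(S₀.toScheme, ⊤) := by
    haveI : JacobsonSpace S₀.toScheme := LocallyOfFiniteType.jacobsonSpace (S₀.ι ≫ q)
    refine PrimeSpectrum.isJacobsonRing_iff_jacobsonSpace.2 ?_
    exact JacobsonSpace.of_isOpenEmbedding (Y := S₀.toScheme) S₀.toScheme.isoSpec.inv.isOpenEmbedding
  let W' : Y.Opens := W ⊓ f ⁻¹ᵁ S₀
  let qZ : W'.toScheme ⟶ S₀.toScheme := f.resLE S₀ W' inf_le_right
  haveI : IsLocallyNoetherian W'.toScheme := isLocallyNoetherian_of_isOpenImmersion W'.ι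
  haveI : CompactSpace W'.toScheme := isCompact_iff_compactSpace.1 (NoetherianSpace.isCompact _)
  haveI : LocallyOfFiniteType qZ := inferInstance
  let M : W'.toScheme.Modules := E.restrict W'.ι
  have hM : Coh.IsCoh M := Groth.SheafExt.isCoh_restrictFunctor W'.ι hE
  have hMfl : FlatMod.IsFlatOver qZ M := fun z => by
    refine (Groth.FlatMorOne.isFlatOverAt_comp_openImmersion qZ S₀.ι M z).1 ?_
    have h := Groth.DerivedCoh.PCohNil.isFlatOver_restrict W'.ι hfl z
    rwa [Scheme.Hom.resLE_comp_ι]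
  -- the square over a point of `S₀`
  have square : ∀ (s : S) (hs : s ∈ S₀),
      ∃ (t : Spec (S.residueField s) ⟶ S₀.toScheme),
        t ≫ S₀.ι = S.fromSpecResidueField s ∧
        IsPullback ((f.fiberι s).resLE W' (f.fiberι s ⁻¹ᵁ W') le_rfl)
          ((f.fiberι s ⁻¹ᵁ W').ι ≫ f.fiberToSpecResidueField s) qZ t := by
    intro s hs
    have hr : Set.range (S.fromSpecResidueField s) ⊆ Set.range S₀.ι := by
      rw [Scheme.Opens.range_ι]
      rintro _ ⟨p, rfl⟩
      rw [Scheme.fromSpecResidueField_apply]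
      exact hs
    refine ⟨IsOpenImmersion.lift S₀.ι _ hr, IsOpenImmersion.lift_fac _ _ _, ?_⟩
    refine Groth.AlgGrp1.isPullback_of_comp_mono (c := S₀.ι) ?_
    rw [IsOpenImmersion.lift_fac, Scheme.Hom.resLE_comp_ι]
    have h1 : IsPullback ((f.fiberι s).resLE W' (f.fiberι s ⁻¹ᵁ W') le_rfl)
        (f.fiberι s ⁻¹ᵁ W').ι W'.ι (f.fiberι s) := by
      rw [Scheme.Hom.resLE_eq_morphismRestrict]
      exact isPullback_morphismRestrict _ _
    exact h1.paste_vert (IsPullback.of_hasPullback f (S.fromSpecResidueField s))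
  have hmem : ∀ s, s ∈ S₀ → f.fiberι s ⁻¹ᵁ W' = f.fiberι s ⁻¹ᵁ W := fun s hs => by
    refine Opens.ext (Set.ext fun z => ⟨fun h => h.1, fun h => ⟨h, ?_⟩⟩)
    show f.base _ ∈ S₀
    rw [Groth.FibreDim.apply_fiberι f s z]
    exact hs
  have hUη : f.fiberι η ⁻¹ᵁ W' = U := by
    rw [hmem η hηS₀]
    refine Opens.ext ?_
    change (ιη ⁻¹' Zbᶜ) = (U : Set _)
    rw [Set.preimage_compl, hZb, compl_compl]
  have isoU : ∀ s : S, Nonempty
      ((Scheme.Modules.pullback ((f.fiberι s).resLE W' (f.fiberι s ⁻¹ᵁ W') le_rfl)).obj M ≅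
        (Scheme.Modules.restrictFunctor (f.fiberι s ⁻¹ᵁ W').ι).obj (CohIII.fiberMod f E s)) := fun s =>
    ⟨(Scheme.Modules.pullback _).mapIso ((Scheme.Modules.restrictFunctorIsoPullback W'.ι).app E) ≪≫
      (Scheme.Modules.pullbackComp _ W'.ι).app E ≪≫
      (Scheme.Modules.pullbackCongr ((f.fiberι s).resLE_comp_ι le_rfl)).app E ≪≫
      ((Scheme.Modules.pullbackComp (f.fiberι s ⁻¹ᵁ W').ι (f.fiberι s)).app E).symm ≪≫
      ((Scheme.Modules.restrictFunctorIsoPullback _).app _).symm⟩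
  have hfield : ∀ s : S, IsField Γ(Spec (S.residueField s), ⊤) := fun s =>
    MulEquiv.isField (Field.toIsField (S.residueField s))
      (Scheme.ΓSpecIso (S.residueField s)).commRingCatIsoToRingEquiv.toMulEquiv
  obtain ⟨tη, htη, Hη⟩ := square η hηS₀
  haveI : IsPreimmersion tη := by
    haveI : IsPreimmersion (tη ≫ S₀.ι) := htη ▸ inferInstance
    exact IsPreimmersion.of_comp tη S₀.ι
  let pη : Spec (S.residueField η) := default
  have hpη : tη pη = genericPoint S₀.toScheme := by
    refine S₀.ι.isOpenEmbedding.injective ?_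
    rw [← Scheme.Hom.comp_apply, htη, Scheme.fromSpecResidueField_apply,
      genericPoint_eq_of_isOpenImmersion S₀.ι]
  have hinj : Function.Injective tη.appTop := by
    rw [injective_iff_map_eq_zero]
    intro r hr
    have h : r ∈ RingHom.ker tη.appTop.hom := hr
    rw [ker_appTop tη (hfield η) pη, hpη] at h
    have hgp : S₀.toScheme.isoSpec.hom (genericPoint S₀.toScheme) = genericPoint (Spec Γ(S₀.toScheme, ⊤)) :=
      genericPoint_eq_of_isOpenImmersion S₀.toScheme.isoSpec.hom
    rw [hgp, genericPoint_eq_bot_of_affine] at h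
    exact h
  have hfrac : letI := tη.appTop.hom.toAlgebra
      IsFractionRing Γ(S₀.toScheme, ⊤) Γ(Spec (S.residueField η), ⊤) := by
    letI := (hfield η).toField
    letI := tη.appTop.hom.toAlgebra
    haveI : FaithfulSMul Γ(S₀.toScheme, ⊤) Γ(Spec (S.residueField η), ⊤) :=
      (faithfulSMul_iff_algebraMap_injective _ _).2 hinj
    refine IsFractionRing.of_field _ _ fun c => ?_
    obtain ⟨r, g, hg, he⟩ := exists_fraction tη (hfield η) c
    exact ⟨r, g, by
      change c = tη.appTop r / tη.appTop g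
      rw [eq_div_iff hg, mul_comm]; exact he⟩
  have key := isScalar_generic Hη M hM hMfl hfrac 1 one_ne_zero fun 𝔪 h𝔪 _ => by
    let x : S₀.toScheme := S₀.toScheme.isoSpec.inv ⟨𝔪, h𝔪.isPrime⟩
    have hx : IsClosed ({x} : Set S₀.toScheme) := by
      have h := (PrimeSpectrum.isClosed_singleton_iff_isMaximal ⟨𝔪, h𝔪.isPrime⟩).2 h𝔪
      have h2 := S₀.toScheme.isoSpec.inv.homeomorph.isClosedMap _ h
      erw [Set.image_singleton] at h2
      exact h2
    let s : S := S₀.ι x
    have hs : IsClosed ({s} : Set S) := by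
      have := S₀.ι.isOpenEmbedding
      have h2 : x ∈ closedPoints S₀.toScheme := hx
      rw [← this.preimage_closedPoints] at h2
      exact h2
    obtain ⟨t₁, ht₁, H₁⟩ := square s x.2
    haveI : IsClosedImmersion (t₁ ≫ S₀.ι) := by
      rw [ht₁]; exact isClosed_singleton_iff_isClosedImmersion.1 hs
    haveI : IsClosedImmersion t₁ := IsClosedImmersion.of_comp t₁ S₀.ι
    refine ⟨_, _, inferInstance, _, _, t₁, H₁,
      (IsClosedImmersion.isAffine_surjective_of_isAffine t₁).2, ?_, fun u => ?_⟩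
    · have hp : t₁ default = x := by
        refine S₀.ι.isOpenEmbedding.injective ?_
        rw [← Scheme.Hom.comp_apply, ht₁, Scheme.fromSpecResidueField_apply]
      rw [ker_appTop t₁ (hfield s) default, hp]
      simp [x, ← Scheme.Hom.comp_apply]
    · obtain ⟨e⟩ := isoU s
      have h := hsimple s hs (f.fiberι s ⁻¹ᵁ W') (fun z hzU hz => ?_) (e.inv ≫ u ≫ e.hom)
      · have h2 := isScalar_of_iso e h
        simpa using h2
      · have hzW : f.fiberι s z ∈ Zb := by
          rw [hmem s x.2] at hzU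
          exact not_not.1 hzU
        obtain ⟨m, hm⟩ := Groth.Variety2.Dim.exists_height_eq (fs s) z
        have h1 := (hc s).1 (hS₀O _ x.2) z hzW hz m hm
        obtain ⟨η', hη', hsp, hd⟩ := (hgen s).2 z hz
        refine le_trans ?_ (le_dim_gens (fs s)
          (Groth.CohTwo.isClosed_support _ (hEs s)) hsp hη' hm hd)
        exact_mod_cast (show ℓ + 1 ≤ d - m by omega)
  obtain ⟨e⟩ := isoU η
  revert φ
  rw [← hUη]
  intro φ
  have h := isScalar_of_iso e.symm (key (e.hom ≫ φ ≫ e.inv))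
  simpa using h

end Groth.CohTwo.EllSimple
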