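import Groth.Agent.CohTwo.EllSimple.Alg
import Groth.Agent.CohTwo.EllSimple.FibreSec
import Groth.Agent.Flatmor4.FlatModAffine
import Groth.Agent.GenericFree.Basic
import Groth.Agent.QCohMod.FiniteType
import Groth.Agent.QCohMod.Sections
import Groth.Agent.PicAux.Pullback
import Groth.Agent.QCohMod.PullbackQCoh

/-!
# Endomorphisms scalar on almost all closed fibres are scalar on the generic fibre
-/

universe u

open CategoryTheory CategoryTheory.Limits AlgebraicGeometry TopologicalSpace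
open Groth.PicAux (pullSec)
open Groth.GenericFree

set_option backward.isDefEq.respectTransparency.types false

namespace Groth.CohTwo.EllSimple

variable {Z S : Scheme.{u}}

/-- An endomorphism is multiplication by a function of the base. -/
def IsScalar {T : Scheme.{u}} (q : Z ⟶ T) {M : Z.Modules} (φ : M ⟶ M) : Prop :=
  ∃ c : Γ(T, ⊤), ∀ (V : Z.Opens) (x : Γ(M, V)), φ.app V x = baseFn q V c • x

theorem resR_baseFn (q : Z ⟶ S) {V W : Z.Opens} (h : W ≤ V) (c : Γ(S, ⊤)) :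
    resR Z h (baseFn q V c) = baseFn q W c :=
  congr($(Scheme.Hom.appLE_map q (le_top : V ≤ q ⁻¹ᵁ ⊤) (homOfLE h).op).hom c)

/-- Finite products preserve generic freeness. -/
theorem gf_pi {R : Type u} [CommRing R] [IsDomain R] {ι : Type u} [Fintype ι] (M : ι → Type u)
    [∀ i, AddCommGroup (M i)] [∀ i, Module R (M i)] (h : ∀ i, GF R (M i)) : GF R (∀ i, M i) := by
  classical
  choose f hf κ φ hφ hs using h
  let e := Finsupp.sigmaFinsuppLEquivPiFinsupp R (ιs := κ) (M := R)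
  let P : (∀ i, κ i →₀ R) →ₗ[R] ∀ i, M i := LinearMap.pi fun i => φ i ∘ₗ LinearMap.proj i
  refine ⟨∏ i, f i, Finset.prod_ne_zero_iff.2 fun i _ => hf i, Σ i, κ i, P ∘ₗ e.toLinearMap, ?_,
    fun m => ?_⟩
  · have hP : Function.Injective P := fun x y hxy => funext fun i => hφ i (congrFun hxy i)
    exact hP.comp e.injective
  · choose k hk using fun i => hs i (m i)
    let K := ∑ i, k i
    have hmem : ∀ i, (∏ j, f j) ^ K • m i ∈ LinearMap.range (φ i) := fun i => by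
      obtain ⟨c, hc⟩ : f i ^ k i ∣ (∏ j, f j) ^ K :=
        (pow_dvd_pow_of_dvd (Finset.dvd_prod_of_mem f (Finset.mem_univ i)) _).trans
          (pow_dvd_pow _ (Finset.single_le_sum (fun j _ => Nat.zero_le (k j)) (Finset.mem_univ i)))
      rw [hc, mul_comm, mul_smul]
      exact Submodule.smul_mem _ _ (hk i)
    choose x hx using hmem
    refine ⟨K, e.symm x, ?_⟩
    simp only [LinearMap.comp_apply, LinearEquiv.coe_coe, LinearEquiv.apply_symm_apply]
    exact funext fun i => hx i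

variable {Z' T : Scheme.{u}}

theorem pullSec_add (k : Z' ⟶ Z) (M : Z.Modules) {V : Z.Opens} (a b : Γ(M, V)) :
    pullSec k M (a + b) = pullSec k M a + pullSec k M b :=
  map_add (((Scheme.Modules.pullbackPushforwardAdjunction k).unit.app M).app V).hom a b

theorem pullSec_zero (k : Z' ⟶ Z) (M : Z.Modules) (V : Z.Opens) :
    pullSec k M (0 : Γ(M, V)) = 0 :=
  map_zero (((Scheme.Modules.pullbackPushforwardAdjunction k).unit.app M).app V).hom

theorem pullSec_sub (k : Z' ⟶ Z) (M : Z.Modules) {V : Z.Opens} (a b : Γ(M, V)) :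
    pullSec k M (a - b) = pullSec k M a - pullSec k M b :=
  map_sub (((Scheme.Modules.pullbackPushforwardAdjunction k).unit.app M).app V).hom a b

variable {k : Z' ⟶ Z} {q' : Z' ⟶ T} {q : Z ⟶ S} {t : T ⟶ S}

/-- Pulled back sections are semilinear in functions of the base. -/
theorem pullSec_baseFn (H : IsPullback k q' q t) (M : Z.Modules) {V : Z.Opens} (r : Γ(S, ⊤))
    (m : Γ(M, V)) :
    pullSec k M (baseFn q V r • m) = baseFn q' (k ⁻¹ᵁ V) (t.appTop r) • pullSec k M m := by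
  rw [Groth.PicAux.pullSec_smul, baseFn_comm H V r]

/-- Finitely many affine opens cover a quasi-compact scheme. -/
theorem exists_affine_cover (Z : Scheme.{u}) [CompactSpace Z] :
    ∃ J : Finset Z.affineOpens, ∀ x : Z, ∃ V ∈ J, x ∈ V.1 := by
  obtain ⟨J, hJ⟩ := isCompact_univ.elim_finite_subcover (fun V : Z.affineOpens => (V.1 : Set Z))
    (fun V => V.1.isOpen) fun x _ => by
      obtain ⟨_, ⟨V, hV, rfl⟩, hxV, -⟩ :=
        Z.isBasis_affineOpens.exists_subset_of_mem_open (Set.mem_univ x) isOpen_univ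
      exact Set.mem_iUnion.2 ⟨⟨V, hV⟩, hxV⟩
  exact ⟨J, fun x => by simpa using hJ (Set.mem_univ x)⟩

variable [IsAffine S] [IsAffine T] [IsDomain Γ(S, ⊤)]

/-- A nonzero function of the base is injective on sections of a flat module. -/
theorem smul_eq_zero_of_flat (M : Z.Modules) [M.IsQuasicoherent] (hfl : FlatMod.IsFlatOver q M)
    {W : Z.Opens} {g : Γ(S, ⊤)} (hg : g ≠ 0) (m : Γ(M, W)) (hm : baseFn q W g • m = 0) : m = 0 := by
  refine eq_of_local M m 0 fun x hx => ?_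
  obtain ⟨_, ⟨V, hV, rfl⟩, hxV, hVW⟩ :=
    Z.isBasis_affineOpens.exists_subset_of_mem_open (a := x) hx W.isOpen
  refine ⟨V, hVW, hxV, ?_⟩
  have hflat := (Groth.Flatmor4.isFlatOver_iff_affine q M).1 hfl V ⊤ le_top hV (isAffineOpen_top S)
  letI := Module.compHom Γ(M, V) (baseFn q V)
  haveI : Module.Flat Γ(S, ⊤) Γ(M, V) := hflat
  have h1 : g • res M hVW m = 0 := by
    change baseFn q V g • res M hVW m = 0
    rw [← resR_baseFn q hVW g, ← res_smul, hm, map_zero]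
  have hinj : Function.Injective fun x : Γ(M, V) => g • x := smul_right_injective _ hg
  rw [map_zero]
  exact hinj (h1.trans (smul_zero g).symm)

/-- Pullback to the generic fibre is injective on sections of a flat module. -/
theorem pullSec_injective (H : IsPullback k q' q t) (M : Z.Modules) [M.IsQuasicoherent]
    (hfl : FlatMod.IsFlatOver q M)
    (hfrac : letI := t.appTop.hom.toAlgebra
      IsFractionRing Γ(S, ⊤) Γ(T, ⊤))
    {W : Z.Opens} (m m' : Γ(M, W)) (h : pullSec k M m = pullSec k M m') : m = m' := by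
  refine eq_of_local M m m' fun x hx => ?_
  obtain ⟨_, ⟨V, hV, rfl⟩, hxV, hVW⟩ :=
    Z.isBasis_affineOpens.exists_subset_of_mem_open (a := x) hx W.isOpen
  refine ⟨V, hVW, hxV, sub_eq_zero.1 ?_⟩
  rw [← map_sub]
  have h0 : pullSec k M (res M hVW (m - m')) = 0 := by
    have h1 := Groth.PicAux.res_pullSec k M hVW (m - m')
    refine h1.symm.trans ?_
    refine (congrArg _ ((pullSec_sub k M m m').trans (sub_eq_zero.2 h))).trans (map_zero _)
  obtain ⟨g, hg, hg0⟩ := (pullSec_generic H M hV hfrac).2 _ h0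
  exact smul_eq_zero_of_flat M hfl hg _ hg0

set_option maxHeartbeats 800000 in
/-- Endomorphisms of the generic fibre come from endomorphisms up to a nonzero function. -/
theorem exists_extension [CompactSpace Z] [IsLocallyNoetherian Z] (H : IsPullback k q' q t)
    (M : Z.Modules) (hM : Coh.IsCoh M) (hfl : FlatMod.IsFlatOver q M)
    (hfrac : letI := t.appTop.hom.toAlgebra
      IsFractionRing Γ(S, ⊤) Γ(T, ⊤))
    (φ : (Scheme.Modules.pullback k).obj M ⟶ (Scheme.Modules.pullback k).obj M) :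
    ∃ (g : Γ(S, ⊤)) (ψ : M ⟶ M), g ≠ 0 ∧ ∀ (W : Z.Opens) (s : Γ(M, W)),
      pullSec k M (ψ.app W s) =
        baseFn q' (k ⁻¹ᵁ W) (t.appTop g) • φ.app (k ⁻¹ᵁ W) (pullSec k M s) := by
  classical
  haveI := hM.1
  obtain ⟨J, hcov⟩ := exists_affine_cover Z
  have hfin : ∀ V : Z.affineOpens, ∃ g : Γ(S, ⊤), g ≠ 0 ∧ ∀ m : Γ(M, V.1), ∃ n : Γ(M, V.1),
      baseFn q' (k ⁻¹ᵁ V.1) (t.appTop g) • φ.app (k ⁻¹ᵁ V.1) (pullSec k M m) = pullSec k M n := by
    intro V
    haveI := Groth.QCohMod.finite_sections M hM.2 V.2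
    obtain ⟨s, hs⟩ := Module.Finite.fg_top (R := Γ(Z, V.1)) (M := Γ(M, V.1))
    choose g n hg hn using fun a : s =>
      (pullSec_generic H M V.2 hfrac).1 (φ.app (k ⁻¹ᵁ V.1) (pullSec k M a.1))
    refine ⟨∏ a, g a, Finset.prod_ne_zero_iff.2 fun a _ => hg a, fun m => ?_⟩
    have hm : m ∈ Submodule.span Γ(Z, V.1) (s : Set Γ(M, V.1)) := hs ▸ trivial
    induction hm using Submodule.span_induction with
    | mem a ha =>
      obtain ⟨c, hc⟩ := Finset.dvd_prod_of_mem g (Finset.mem_univ (⟨a, ha⟩ : s))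
      refine ⟨baseFn q V.1 c • n ⟨a, ha⟩, ?_⟩
      rw [hc, map_mul, map_mul, mul_comm, mul_smul, hn ⟨a, ha⟩, pullSec_baseFn H]
    | zero => exact ⟨0, by rw [pullSec_zero, map_zero, smul_zero]⟩
    | add a b _ _ ha hb =>
      obtain ⟨u, hu⟩ := ha
      obtain ⟨w, hw⟩ := hb
      exact ⟨u + w, by rw [pullSec_add, pullSec_add, map_add, smul_add, hu, hw]⟩
    | smul r a _ ha =>
      obtain ⟨u, hu⟩ := ha
      refine ⟨r • u, ?_⟩
      rw [Groth.PicAux.pullSec_smul, Groth.PicAux.pullSec_smul, φ.app_smul, smul_comm, hu]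
  choose g hg hfin using hfin
  let G := ∏ V ∈ J, g V
  have hG : G ≠ 0 := Finset.prod_ne_zero_iff.2 fun V _ => hg V
  let R : ∀ W : Z.Opens, Γ(M, W) → Γ(M, W) → Prop := fun W s t₁ =>
    pullSec k M t₁ = baseFn q' (k ⁻¹ᵁ W) (t.appTop G) • φ.app (k ⁻¹ᵁ W) (pullSec k M s)
  have hinj : ∀ {W : Z.Opens} (a b : Γ(M, W)), pullSec k M a = pullSec k M b → a = b :=
    fun a b => pullSec_injective H M hfl hfrac a b
  have hrp : ∀ {W' W : Z.Opens} (h : W' ≤ W) (m : Γ(M, W)),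
      pullSec k M (res M h m) = res _ (k.preimage_mono h) (pullSec k M m) :=
    fun h m => (Groth.PicAux.res_pullSec k M h m).symm
  have hresR : ∀ {W' W : Z.Opens} (h : W' ≤ W) (s : Γ(M, W)) (t₁ : Γ(M, W)),
      R W s t₁ → R W' (res M h s) (res M h t₁) := by
    intro W' W h s t₁ hR
    simp only [R] at hR ⊢
    rw [hrp, hrp, hR, res_smul, resR_baseFn, ← app_res]
  obtain ⟨ψ, hψ⟩ := exists_hom_of_local R hresR
    (fun W s t₁ t₂ h1 h2 => hinj _ _ (h1.trans h2.symm))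
    (fun W s t₁ hloc => by
      refine eq_of_local _ _ _ fun y hy => ?_
      obtain ⟨W', h, hyW', hR⟩ := hloc (k y) hy
      refine ⟨k ⁻¹ᵁ W', k.preimage_mono h, hyW', ?_⟩
      simp only [R] at hR
      rw [res_smul, resR_baseFn, ← app_res, ← hrp, ← hrp]
      exact hR)
    (fun W s x hx => by
      obtain ⟨V, hVJ, hxV⟩ := hcov x
      obtain ⟨a, haW, hax⟩ := V.2.exists_basicOpen_le (V := W) ⟨x, hx⟩ hxV
      obtain ⟨N, m, hm⟩ := Groth.QCohMod.exists_pow_smul_eq_res M V.2 a (res M haW s)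
      obtain ⟨u, hu⟩ := hfin V m
      obtain ⟨c, hc⟩ := Finset.dvd_prod_of_mem g hVJ
      let D := Z.basicOpen a
      have hDV : D ≤ V.1 := Z.basicOpen_le a
      let b : Γ(Z, D) := resR Z hDV a ^ N
      have hb : IsUnit b := (Z.toRingedSpace.isUnit_res_basicOpen a).pow N
      have hm' : b • res M haW s = res M hDV m := hm.symm
      refine ⟨D, haW, hb.unit⁻¹.1 • res M hDV (baseFn q V.1 c • u), hax, ?_⟩
      simp only [R]
      refine (hb.map (k.app D).hom).smul_left_cancel.1 ?_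
      rw [← Groth.PicAux.pullSec_smul, ← mul_smul, IsUnit.mul_val_inv, one_smul, smul_comm,
        ← φ.app_smul, ← Groth.PicAux.pullSec_smul, hm', hrp, hrp, app_res,
        pullSec_baseFn H, ← hu, res_smul, res_smul, resR_baseFn, resR_baseFn, ← mul_smul,
        ← map_mul, ← map_mul]
      simp only [G, hc, mul_comm])
    (fun W s s' t₁ t₂ h1 h2 => by
      simp only [R] at h1 h2 ⊢
      rw [pullSec_add, pullSec_add, map_add, smul_add, h1, h2])
    (fun W r s t₁ h1 => by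
      simp only [R] at h1 ⊢
      rw [Groth.PicAux.pullSec_smul, Groth.PicAux.pullSec_smul, φ.app_smul, smul_comm, h1])
  exact ⟨G, ψ, hG, hψ⟩

set_option maxHeartbeats 800000 in
/-- If all endomorphisms of almost all closed fibres are scalar, so are those of the generic fibre. -/
theorem isScalar_generic [CompactSpace Z] [IsLocallyNoetherian Z] [LocallyOfFiniteType q]
    [IsJacobsonRing Γ(S, ⊤)] (H : IsPullback k q' q t) (M : Z.Modules) (hM : Coh.IsCoh M)
    (hfl : FlatMod.IsFlatOver q M)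
    (hfrac : letI := t.appTop.hom.toAlgebra
      IsFractionRing Γ(S, ⊤) Γ(T, ⊤))
    (g₁ : Γ(S, ⊤)) (hg₁ : g₁ ≠ 0)
    (hclosed : ∀ 𝔪 : Ideal Γ(S, ⊤), 𝔪.IsMaximal → g₁ ∉ 𝔪 →
      ∃ (Z₁ T₁ : Scheme.{u}) (_ : IsAffine T₁) (k₁ : Z₁ ⟶ Z) (q₁ : Z₁ ⟶ T₁) (t₁ : T₁ ⟶ S),
        IsPullback k₁ q₁ q t₁ ∧ Function.Surjective t₁.appTop ∧ RingHom.ker t₁.appTop.hom = 𝔪 ∧
        ∀ u : (Scheme.Modules.pullback k₁).obj M ⟶ (Scheme.Modules.pullback k₁).obj M, IsScalar q₁ u)
    (φ : (Scheme.Modules.pullback k).obj M ⟶ (Scheme.Modules.pullback k).obj M) :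
    IsScalar q' φ := by
  classical
  haveI := hM.1
  obtain ⟨g, ψ, hg, hψ⟩ := exists_extension H M hM hfl hfrac φ
  obtain ⟨J, hcov⟩ := exists_affine_cover Z
  letI : ∀ V : Z.affineOpens, Module Γ(S, ⊤) Γ(M, V.1) :=
    fun V => Module.compHom _ (baseFn q V.1)
  letI : ∀ V : Z.affineOpens, Algebra Γ(S, ⊤) Γ(Z, V.1) := fun V => (baseFn q V.1).toAlgebra
  haveI : ∀ V : Z.affineOpens, IsScalarTower Γ(S, ⊤) Γ(Z, V.1) Γ(M, V.1) :=
    fun V => IsScalarTower.of_algebraMap_smul fun _ _ => rfl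
  have hgf : ∀ V : J, GF Γ(S, ⊤) Γ(M, V.1.1) := fun V => by
    haveI := Groth.QCohMod.finite_sections M hM.2 V.1.2
    haveI : Algebra.FiniteType Γ(S, ⊤) Γ(Z, V.1.1) :=
      q.finiteType_appLE (isAffineOpen_top S) V.1.2 le_top
    exact gf_of_finiteType Γ(Z, V.1.1) Γ(M, V.1.1)
  let Ψ : (∀ V : J, Γ(M, V.1.1)) →ₗ[Γ(S, ⊤)] ∀ V : J, Γ(M, V.1.1) :=
    { toFun := fun m V => ψ.app V.1.1 (m V)
      map_add' := fun a b => funext fun V => map_add _ _ _
      map_smul' := fun r a => funext fun V => ψ.app_smul _ _ }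
  obtain ⟨a, b, hb, hab⟩ := exists_scalar (M := ∀ V : J, Γ(M, V.1.1))
    (fun r m hr hm => funext fun V => smul_eq_zero_of_flat M hfl hr _ (congrFun hm V))
    (gf_pi _ hgf) Ψ g₁ hg₁ fun 𝔪 h𝔪 hg𝔪 => by
      obtain ⟨Z₁, T₁, _, k₁, q₁, t₁, H₁, hsurj, hker, hsc⟩ := hclosed 𝔪 h𝔪 hg𝔪
      obtain ⟨c', hc'⟩ := hsc ((Scheme.Modules.pullback k₁).map ψ)
      obtain ⟨c, rfl⟩ := hsurj c'
      refine ⟨c, fun m => ?_⟩
      have hcomp : ∀ V : J, Ψ m V - c • m V ∈ 𝔪 • (⊤ : Submodule Γ(S, ⊤) Γ(M, V.1.1)) := by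
        intro V
        rw [← hker]
        refine mem_smul_of_pullSec_eq_zero H₁ M V.1.2 hsurj _ ?_
        change pullSec k₁ M (ψ.app V.1.1 (m V) - baseFn q V.1.1 c • m V) = 0
        rw [pullSec_sub, pullSec_baseFn H₁, ← hc', sub_eq_zero]
        exact (Groth.PicAux.pullSec_map k₁ ψ (m V)).symm
      have hx : (Ψ m - c • m) = ∑ V : J, Pi.single V (Ψ m V - c • m V) := by
        rw [Finset.univ_sum_single]; rfl
      rw [hx]
      refine Submodule.sum_mem _ fun V _ => ?_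
      have h1 := Submodule.mem_map_of_mem
        (f := LinearMap.single Γ(S, ⊤) (fun V : J => Γ(M, V.1.1)) V) (hcomp V)
      rw [Submodule.map_smul''] at h1
      exact Submodule.smul_mono le_rfl le_top h1
  letI aT := t.appTop.hom.toAlgebra
  have hu : ∀ r : Γ(S, ⊤), r ≠ 0 → IsUnit (t.appTop r) := fun r hr =>
    IsLocalization.map_units (M := nonZeroDivisors Γ(S, ⊤)) Γ(T, ⊤)
      ⟨r, mem_nonZeroDivisors_of_ne_zero hr⟩
  obtain ⟨e, he⟩ := hu _ (mul_ne_zero hb hg)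
  refine ⟨(e⁻¹).1 * t.appTop a, fun W y => ?_⟩
  refine eq_of_local _ _ _ fun z hz => ?_
  obtain ⟨V, hVJ, hzV⟩ := hcov (k z)
  refine ⟨k ⁻¹ᵁ V.1 ⊓ W, inf_le_right, ⟨hzV, hz⟩, ?_⟩
  rw [← app_res, res_smul, resR_baseFn]
  generalize res ((Scheme.Modules.pullback k).obj M) inf_le_right y = y'
  have hVgen : ∀ w : Γ((Scheme.Modules.pullback k).obj M, k ⁻¹ᵁ V.1),
      φ.app _ w = baseFn q' (k ⁻¹ᵁ V.1) ((e⁻¹).1 * t.appTop a) • w := by
    intro w
    obtain ⟨r, m, hr, hrm⟩ := (pullSec_generic H M V.2 hfrac).1 w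
    refine ((hu r hr).map (baseFn q' (k ⁻¹ᵁ V.1))).smul_left_cancel.1 ?_
    rw [← φ.app_smul, smul_comm, hrm]
    have hm := congrFun (hab (Pi.single ⟨V, hVJ⟩ m)) ⟨V, hVJ⟩
    simp only [Ψ, LinearMap.coe_mk, AddHom.coe_mk, Pi.smul_apply, Pi.single_eq_same] at hm
    change baseFn q V.1 b • ψ.app V.1 m = baseFn q V.1 a • m at hm
    have h2 := congrArg (pullSec k M) hm
    rw [pullSec_baseFn H, pullSec_baseFn H, hψ, ← mul_smul, ← map_mul, ← map_mul] at h2
    rw [map_mul, mul_smul, ← h2, ← mul_smul, ← map_mul, ← he, Units.inv_mul, map_one, one_smul]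
  refine eq_of_local _ _ _ fun x hx => ?_
  obtain ⟨b', hbl, hxb⟩ := (isAffineOpen_preimage H V.2).exists_basicOpen_le
    (V := k ⁻¹ᵁ V.1 ⊓ W) ⟨x, hx⟩ hx.1
  haveI : ((Scheme.Modules.pullback k).obj M).IsQuasicoherent := Groth.QCohMod.isQCoh_pullback_obj k M
  obtain ⟨N, w, hw⟩ := Groth.QCohMod.exists_pow_smul_eq_res _ (isAffineOpen_preimage H V.2) b'
    (res _ hbl y')
  refine ⟨_, hbl, hxb, ?_⟩
  rw [← app_res, res_smul, resR_baseFn]
  have hbu : IsUnit (resR Z' (Z'.basicOpen_le b') b' ^ N) :=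
    (Z'.toRingedSpace.isUnit_res_basicOpen b').pow N
  refine hbu.smul_left_cancel.1 ?_
  have hw' : (resR Z' (Z'.basicOpen_le b') b') ^ N • res _ hbl y' =
      res ((Scheme.Modules.pullback k).obj M) (Z'.basicOpen_le b') w := hw.symm
  rw [← φ.app_smul, smul_comm, hw', app_res, hVgen, res_smul, resR_baseFn]

end Groth.CohTwo.EllSimple
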